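import Groth.Agent.ShStab.K114.K3Glue
import Groth.Agent.VBCurve.K707.Base
import Groth.Agent.VarietyA.StalkCrit

/-!
# Rank two stable sheaves of odd class on a surface with cyclic Picard group, as extensions
-/

set_option autoImplicit false
universe w u
open CategoryTheory CategoryTheory.Limits AlgebraicGeometry Opposite TopologicalSpace Polynomial

namespace K462.K3Ext

open Groth.Agent.Fga.PicMon Groth.Agent
open ShStab StabCat
open K848.Rank K848.Hull K848.Poly K848.HB K848.TF K848.Dim K848.Stab K848.Hartogs K848.PicOne K848.Extn K848.Hull2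

variable (k : Type u) [Field k] {X : Scheme.{u}} [X.Over (Spec (CommRingCat.of k))]
  [IsProper (X ↘ Spec (CommRingCat.of k))] [IsIntegral X] {L : X.Modules}
  (hL : CohB1.IsAmple L) (hn : topologicalKrullDim X = ((2 : ℕ) : WithBot ℕ∞))
  (hreg : ∀ x : X, IsRegularLocalRing (X.presheaf.stalk x))
  [PicGrp.Law X] (hgen : ∀ c : PicLoc.PicSet X, ∃ n : ℤ, c = PicGrp.cls L hL.1 ^ n)
  (hO1 : alpha 1 (hp k L (Coh.structureModule X)) = 0)
  {V : X.Modules} (hV : Coh.IsCoh V) (hVtf : TorSh.IsTorsionFree V) (hst : ShStab.IsStable k X L V 2)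
  (hr : rk V = 2) (h1 : alpha 1 (hp k L V) = alpha 2 (hp k L (Coh.structureModule X)))

omit [IsIntegral X] [PicGrp.Law X] in
theorem ses_cok {F G : X.Modules} (f : F ⟶ G) [Mono f] :
    (ShortComplex.mk f (cokernel.π f) (cokernel.condition f)).ShortExact :=
  { exact := ShortComplex.exact_cokernel f, mono_f := inferInstance, epi_g := inferInstance }

omit [IsIntegral X] [PicGrp.Law X] in
theorem ses_ker {F G : X.Modules} (f : F ⟶ G) [Epi f] :
    (ShortComplex.mk (kernel.ι f) f (kernel.condition f)).ShortExact :=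
  { exact := ShortComplex.exact_kernel f, mono_f := inferInstance, epi_g := inferInstance }

include hL hn hreg hgen hO1 hV hVtf hst hr h1 in
/-- rank one subsheaves have nonpositive degree -/
theorem sub_le {F : X.Modules} (f : F ⟶ V) [Mono f] (hF : Coh.IsCoh F) (hFr : rk F = 1) :
    alpha 1 (hp k L F) ≤ 0 := by
  have := Groth.Agent.Fga.SnapperTwist.isNoetherian_of_proper k X
  have hα := alpha_O_pos k hL hn
  have hFt : TorSh.IsTorsionFree F := isTorsionFree_of_mono f hVtf
  obtain ⟨M, hM, φ, a, hφ, hcls, hcod, ha, -⟩ := exists_hull_cls k hL hn one_le_two hreg hgen hF hFt hFr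
  have ha' : alpha 1 (hp k L F) = a * alpha 2 (hp k L (Coh.structureModule X)) := by
    have := ha
    norm_num at this
    rw [this, hO1, zero_add]
  have hF0 : ¬ IsZero F := not_isZero_of_rk (by omega)
  have hniso : ¬ IsIso f := fun h => by
    have := rk_iso (asIso f)
    omega
  have h2 := PolyLT.le (hst.2.2.2 F f inferInstance hF hF0 hniso _ _ (isHilbPoly_hp k hL.1 hF) (isHilbPoly_hp k hL.1 hV))
  have h3 := hatSlope_le_of_redLE (natDegree_le k hL.1 hn hF) (natDegree_le k hL.1 hn hV)
    ((alpha_pos_iff k hL hn hF).2 (by omega)) ((alpha_pos_iff k hL hn hV).2 (by omega)) h2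
  unfold hatSlope at h3
  norm_num at h3
  rw [alpha_rk k hL.1 hn hF, alpha_rk k hL.1 hn hV, hFr, hr, h1, ha', div_le_div_iff₀ (by positivity) (by positivity)] at h3
  set α := alpha 2 (hp k L (Coh.structureModule X)) with hαdef
  have h4 : (a : ℚ) * 2 ≤ 1 := by
    push_cast at h3
    have h5 : ((a : ℚ) * 2) * (α * α) ≤ 1 * (α * α) := by nlinarith
    exact le_of_mul_le_mul_right h5 (by positivity)
  have h5 : a ≤ 0 := by
    have : a * 2 ≤ 1 := by exact_mod_cast h4
    omega
  rw [ha']
  exact mul_nonpos_of_nonpos_of_nonneg (by exact_mod_cast h5) hα.le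

include hL hn hreg hgen hO1 hV hVtf hst hr h1 in
/-- no maps to the structure sheaf -/
theorem hom_eq_zero (f : V ⟶ Coh.structureModule X) : f = 0 := by
  have := Groth.Agent.Fga.SnapperTwist.isNoetherian_of_proper k X
  have hα := alpha_O_pos k hL hn
  have hO : Coh.IsCoh (Coh.structureModule X) := isCoh_structureModule
  have hOt : TorSh.IsTorsionFree (Coh.structureModule X) :=
    isTorsionFree_of_isInvertible Groth.Agent.Fdesc.LocGen.isInvertible_structureModule
  by_contra hf
  have hI : Coh.IsCoh (Abelian.image f) :=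
    Groth.Agent.Sga67.CohBasic.isCoh_kernel _ hO (Groth.Agent.Sga67.CohBasic.isCoh_cokernel _ hV.1 hO).1
  have hK : Coh.IsCoh (kernel f) := Groth.Agent.Sga67.CohBasic.isCoh_kernel f hV hO.1
  have hI0 : ¬ IsZero (Abelian.image f) := fun h => hf (by
    rw [← Abelian.image.fac f, h.eq_of_tgt (Abelian.factorThruImage f) 0, Limits.zero_comp])
  have hIr0 := rk_ne_zero (Abelian.image.ι f) hI hOt hI0
  have hIr1 := rk_le_of_mono (Abelian.image.ι f) hO
  rw [rk_structureModule] at hIr1
  have hS : (ShortComplex.mk (kernel.ι f) (Abelian.factorThruImage f) (by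
      rw [← cancel_mono (Abelian.image.ι f), Category.assoc, Abelian.image.fac, kernel.condition,
        Limits.zero_comp])).ShortExact :=
    { exact := by
        refine ShortComplex.exact_of_f_is_kernel _ (KernelFork.IsLimit.ofι' _ _ fun {A} g hg => ?_)
        exact ⟨kernel.lift f g (by
          rw [← Abelian.image.fac f, ← Category.assoc, hg, Limits.zero_comp]), kernel.lift_ι _ _ _⟩
      mono_f := inferInstance
      epi_g := inferInstance }
  have h2 := rk_shortExact hS hV
  dsimp only at h2
  have h3 := sub_le k hL hn hreg hgen hO1 hV hVtf hst hr h1 (kernel.ι f) hK (by omega)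
  have h4 := hp_add k hL.1 hS hK hV hI
  dsimp only at h4
  have h5 := alpha_pred_le k hL hn (Abelian.image.ι f) hI hO (by rw [rk_structureModule]; omega)
  norm_num at h5
  rw [h4, alpha_add] at h1
  linarith

include hL hn hreg hgen hO1 hV hVtf hst hr h1 in
/-- a nonzero section of `V` has a cokernel which is a subsheaf of `L` of colength of codimension two -/
theorem exists_ext (s : Coh.structureModule X ⟶ V) (hs : s ≠ 0) :
    ∃ (N : X.Modules) (ι : N ⟶ L) (_ : Mono ι) (_ : Coh.IsCoh N)
      (_ : topologicalKrullDim (CohB1.support (cokernel ι)) ≤ 0)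
      (a : Coh.structureModule X ⟶ V) (b : V ⟶ N) (w : a ≫ b = 0),
      (ShortComplex.mk a b w).ShortExact ∧
        ∀ r : V ⟶ Coh.structureModule X, a ≫ r ≠ 𝟙 (Coh.structureModule X) := by
  have := Groth.Agent.Fga.SnapperTwist.isNoetherian_of_proper k X
  have hα := alpha_O_pos k hL hn
  have hnorm := isIntegrallyClosed_of_regular hreg
  have hOi : PicF.IsInvertible (Coh.structureModule X) := Groth.Agent.Fdesc.LocGen.isInvertible_structureModule
  have hO : Coh.IsCoh (Coh.structureModule X) := isCoh_structureModule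
  have hOt : TorSh.IsTorsionFree (Coh.structureModule X) := isTorsionFree_of_isInvertible hOi
  have hO0 : ¬ IsZero (Coh.structureModule X) := not_isZero_of_rk (by rw [rk_structureModule]; omega)
  have hsm : Mono s := (eq_zero_or_mono hO hOt rk_structureModule hV hVtf s).resolve_left hs
  have hN : Coh.IsCoh (cokernel s) := Groth.Agent.Sga67.CohBasic.isCoh_cokernel s hO.1 hV
  have hSs := ses_cok s
  have hrN : rk (cokernel s) = 1 := by
    have h2 := rk_shortExact hSs hV
    dsimp only at h2
    rw [rk_structureModule] at h2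
    omega
  -- torsion of the cokernel
  obtain ⟨T, Q, i, p, w, hT, hTc, hQc, hTg, hQt⟩ := K707.Base.exists_torsion hN
  have hpe : Epi p := hT.epi_g
  have hrT : rk T = 0 := by
    rw [rk_eq_zero_iff hTc]
    exact fun h => h hTg
  have hrQ : rk Q = 1 := by
    have h2 := rk_shortExact hT hN
    dsimp only at h2
    omega
  let b : V ⟶ Q := cokernel.π s ≫ p
  have hb : Epi b := epi_comp _ _
  have hSb := ses_ker b
  have hF : Coh.IsCoh (kernel b) := Groth.Agent.Sga67.CohBasic.isCoh_kernel b hV hQc.1
  have hrF : rk (kernel b) = 1 := by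
    have h2 := rk_shortExact hSb hV
    dsimp only at h2
    omega
  have hFt : TorSh.IsTorsionFree (kernel b) := isTorsionFree_of_mono (kernel.ι b) hVtf
  let l : Coh.structureModule X ⟶ kernel b := kernel.lift b s (by
    change s ≫ cokernel.π s ≫ p = 0
    rw [← Category.assoc, cokernel.condition, Limits.zero_comp])
  have hl : l ≫ kernel.ι b = s := kernel.lift_ι _ _ _
  have hlm : Mono l := by
    have : Mono (l ≫ kernel.ι b) := by rw [hl]; exact hsm
    exact mono_of_mono l (kernel.ι b)
  have h2 := sub_le k hL hn hreg hgen hO1 hV hVtf hst hr h1 (kernel.ι b) hF hrF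
  have h3 := codim_of_alpha_pred_eq k hL hn l hO hF (by rw [rk_structureModule, hrF]) (by
    norm_num
    rw [hO1]
    exact h2)
  obtain ⟨ψ, hψ⟩ := exists_factor hnorm (big_cokOpen hO hF l h3) l (bijective_cokOpen hO hF l)
    hO (isFinLocFree_of_isInvertible hOi) (𝟙 _)
  have hψm : Mono ψ := (eq_zero_or_mono hF hFt hrF hO hOt ψ).resolve_left (by
    rintro rfl
    rw [Limits.comp_zero] at hψ
    exact hO0 ((IsZero.iff_id_eq_zero _).2 hψ.symm))
  have hli : IsIso l := by
    refine ⟨ψ, hψ, ?_⟩
    rw [← cancel_mono ψ, Category.assoc, hψ, Category.comp_id, Category.id_comp]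
  have hpi : IsIso p := by
    have h4 : kernel.ι b ≫ cokernel.π s = 0 := by
      have : kernel.ι b = inv l ≫ s := by rw [← hl, IsIso.inv_hom_id_assoc]
      rw [this, Category.assoc, cokernel.condition, Limits.comp_zero]
    obtain ⟨t, ht⟩ := hSb.exact.desc' (cokernel.π s) h4
    have h5 : p ≫ t = 𝟙 _ := by
      rw [← cancel_epi (cokernel.π s), Category.comp_id]
      rw [← Category.assoc]
      exact ht
    have : Mono p := mono_of_mono_fac h5
    exact isIso_of_mono_of_epi p
  have hNt : TorSh.IsTorsionFree (cokernel s) := isTorsionFree_of_mono p hQt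
  obtain ⟨M, hM, φ, a, hφ, hcls, hcod, ha, -⟩ := exists_hull_cls k hL hn one_le_two hreg hgen hN hNt hrN
  have ha1 : a = 1 := by
    have h4 := hp_add k hL.1 hSs hO hV hN
    dsimp only at h4
    norm_num at ha
    rw [h4, alpha_add, ha, hO1, zero_add, zero_add] at h1
    have h5 : ((a : ℚ) - 1) * alpha 2 (hp k L (Coh.structureModule X)) = 0 := by linarith
    have h6 : (a : ℚ) - 1 = 0 := (mul_eq_zero.1 h5).resolve_right hα.ne'
    have h7 : (a : ℚ) = 1 := by linarith
    exact_mod_cast h7
  have he : Nonempty (M ≅ L) := (mc_eq_iff _ _).1 (congrArg Subtype.val (by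
    rw [hcls, ha1, zpow_one] : PicGrp.cls M hM = PicGrp.cls L hL.1))
  obtain ⟨e⟩ := he
  refine ⟨cokernel s, φ ≫ e.hom, mono_comp _ _, hN, ?_, s, cokernel.π s, cokernel.condition s, hSs, ?_⟩
  · have hcl : IsClosed (CohB1.support (cokernel φ)) :=
      Groth.Agent.S0020.result X _ (Groth.Agent.Sga67.CohBasic.isCoh_cokernel φ hN.1 (isCoh_of_isInvertible hM)).2
    have h4 := topologicalKrullDim_add_le hn hcl 2 (by simpa using hcod)
    have h5 : CohB1.support (cokernel (φ ≫ e.hom)) = CohB1.support (cokernel φ) :=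
      Groth.Agent.VarietyA.StalkCrit.support_eq_of_iso (cokernelCompIsIso φ e.hom)
    rw [h5]
    generalize topologicalKrullDim (CohB1.support (cokernel φ)) = t at h4 ⊢
    induction t with
    | bot => exact bot_le
    | coe t =>
      have h6 : t + 2 ≤ ((2 : ℕ) : ℕ∞) := WithBot.coe_le_coe.1 h4
      have h7 : t ≠ ⊤ := by
        rintro rfl
        simp at h6
      lift t to ℕ using h7
      have h8 : t + 2 ≤ 2 := by exact_mod_cast h6
      have h9 : t = 0 := by omega
      rw [h9]
      rfl
  · intro r hr'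
    rw [hom_eq_zero k hL hn hreg hgen hO1 hV hVtf hst hr h1 r, Limits.comp_zero] at hr'
    exact hO0 ((IsZero.iff_id_eq_zero _).2 hr'.symm)

end K462.K3Ext
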